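import Groth.Agent.CAlgN2.AnUnram
import Mathlib.RingTheory.DedekindDomain.IntegralClosure
import Mathlib.RingTheory.QuasiFinite.Basic
import Mathlib.RingTheory.Ideal.GoingUp

/-!
# The normalization of a noetherian local domain in a finite extension is semilocal
-/

universe u

open IsLocalRing TensorProduct

namespace Groth.Agent.NormSemiloc

/-- A field generated by the image of a ring with N-2 quotients and finitely many integral elements
has module-finite integral closure of the ring. -/
theorem finite_integralClosure_field (R : Type u) [CommRing R] [IsNoetherianRing R]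
    (h : ∀ (q : Ideal R) [q.IsPrime], CAlg.IsN2 (R ⧸ q))
    (F : Type u) [Field F] [Algebra R F] (s : Set F) (hs : s.Finite)
    (hint : ∀ x ∈ s, IsIntegral R x)
    (htop : Subfield.closure (Set.range (algebraMap R F) ∪ s) = ⊤) :
    Module.Finite R (integralClosure R F) := by
  let q := RingHom.ker (algebraMap R F)
  haveI : q.IsPrime := RingHom.ker_isPrime _
  letI : Algebra (R ⧸ q) F := (RingHom.kerLift (algebraMap R F)).toAlgebra
  haveI : IsScalarTower R (R ⧸ q) F := IsScalarTower.of_algebraMap_eq fun _ => rfl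
  haveI : FaithfulSMul (R ⧸ q) F :=
    (faithfulSMul_iff_algebraMap_injective _ _).2 (RingHom.kerLift_injective _)
  letI : Algebra (FractionRing (R ⧸ q)) F := FractionRing.liftAlgebra (R ⧸ q) F
  haveI : FiniteDimensional (FractionRing (R ⧸ q)) F := by
    let E : IntermediateField (FractionRing (R ⧸ q)) F := IntermediateField.adjoin _ s
    haveI : Finite s := hs
    haveI : FiniteDimensional (FractionRing (R ⧸ q)) E :=
      IntermediateField.finiteDimensional_adjoin
        (S := s) (fun x hx => ((hint x hx).tower_top (A := R ⧸ q)).tower_top)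
    have hle : Subfield.closure (Set.range (algebraMap R F) ∪ s) ≤ E.toSubfield := by
      refine Subfield.closure_le.2 (Set.union_subset ?_ (fun x hx => IntermediateField.subset_adjoin _ _ hx))
      rintro _ ⟨r, rfl⟩
      rw [IsScalarTower.algebraMap_apply R (R ⧸ q) F,
        IsScalarTower.algebraMap_apply (R ⧸ q) (FractionRing (R ⧸ q)) F]
      exact E.algebraMap_mem _
    have hE : E = ⊤ := eq_top_iff.2 fun z _ => hle (by rw [htop]; trivial)
    haveI : FiniteDimensional (FractionRing (R ⧸ q)) (⊤ : IntermediateField (FractionRing (R ⧸ q)) F) :=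
      hE ▸ ‹FiniteDimensional (FractionRing (R ⧸ q)) E›
    exact Module.Finite.equiv
      (IntermediateField.topEquiv (F := FractionRing (R ⧸ q)) (E := F)).toLinearEquiv
  haveI : Module.Finite (R ⧸ q) (integralClosure (R ⧸ q) F) := h q F inferInstance
  haveI : Module.Finite R (integralClosure (R ⧸ q) F) := Module.Finite.trans (R ⧸ q) _
  let ι : integralClosure R F →ₗ[R] integralClosure (R ⧸ q) F :=
    { toFun := fun z => ⟨z.1, z.2.tower_top⟩, map_add' := fun _ _ => rfl, map_smul' := fun _ _ => rfl }
  exact Module.Finite.of_injective ι fun a b h => by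
    have h' : (ι a).1 = (ι b).1 := congrArg Subtype.val h
    exact Subtype.ext h'

variable (A : Type u) [CommRing A] [IsDomain A] [IsLocalRing A] [IsNoetherianRing A]
  (K' : Type u) [Field K'] [Algebra A K'] [Algebra (FractionRing A) K']
  [IsScalarTower A (FractionRing A) K'] [FiniteDimensional (FractionRing A) K']

set_option synthInstance.maxHeartbeats 400000 in
set_option maxHeartbeats 1600000 in
theorem finite_maximals_and_residue :
    {m : Ideal (integralClosure A K') | m.IsMaximal}.Finite ∧
      ∀ (m : Ideal (integralClosure A K')), m.IsMaximal →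
        Module.Finite A (integralClosure A K' ⧸ m) := by
  classical
  let Ah := AdicCompletion (maximalIdeal A) A
  haveI := CAlgN2.faithfullyFlat_completion A
  let C := integralClosure A K'
  haveI : Algebra.IsIntegral A C := inferInstance
  let R0 := Ah ⊗[A] K'
  haveI : Algebra.EssFiniteType A K' := Algebra.EssFiniteType.comp A (FractionRing A) K'
  haveI : IsNoetherianRing R0 := Algebra.EssFiniteType.isNoetherianRing Ah R0
  haveI : IsFractionRing C K' :=
    IsIntegralClosure.isFractionRing_of_finite_extension A (FractionRing A) K' C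
  have hAinj : Function.Injective (algebraMap A K') := by
    rw [IsScalarTower.algebraMap_eq A (FractionRing A) K', RingHom.coe_comp]
    exact (algebraMap (FractionRing A) K').injective.comp (IsFractionRing.injective A (FractionRing A))
  haveI : FaithfulSMul A K' := (faithfulSMul_iff_algebraMap_injective _ _).2 hAinj
  obtain ⟨s, b, hb⟩ := FiniteDimensional.exists_is_basis_integral A (FractionRing A) K'
  let ι : Ah ⊗[A] C →ₐ[Ah] R0 := Algebra.TensorProduct.map (AlgHom.id Ah Ah) C.val
  have hι : Function.Injective ι :=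
    Module.Flat.lTensor_preserves_injective_linearMap (M := Ah) C.val.toLinearMap
      Subtype.val_injective
  -- the candidates
  have hF : ∀ q : minimalPrimes R0, ∃ (F : Type u) (_ : Field F) (_ : Algebra R0 F),
      RingHom.ker (algebraMap R0 F) = q.1 ∧ ∀ z : F, ∃ u v, z = algebraMap R0 F u / algebraMap R0 F v := by
    intro q
    haveI := q.2.1.1
    refine ⟨FractionRing (R0 ⧸ q.1), inferInstance, inferInstance, ?_, fun z => ?_⟩
    · rw [IsScalarTower.algebraMap_eq R0 (R0 ⧸ q.1) (FractionRing (R0 ⧸ q.1)), RingHom.ker_comp_of_injective _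
        (IsFractionRing.injective (R0 ⧸ q.1) (FractionRing (R0 ⧸ q.1)))]
      exact Ideal.mk_ker
    · obtain ⟨u, v, -, rfl⟩ := IsFractionRing.div_surjective (R0 ⧸ q.1) z
      obtain ⟨u, rfl⟩ := Ideal.Quotient.mk_surjective u
      obtain ⟨v, rfl⟩ := Ideal.Quotient.mk_surjective v
      exact ⟨u, v, rfl⟩
  choose F instF instA hker hfrac using hF
  letI := instF
  letI := instA
  letI : ∀ q, Algebra Ah (F q) := fun q =>
    ((algebraMap R0 (F q)).comp (algebraMap Ah R0)).toAlgebra
  haveI : ∀ q, IsScalarTower Ah R0 (F q) := fun q =>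
    IsScalarTower.of_algebraMap_eq (R := Ah) (S := R0) (A := F q) fun _ => rfl
  letI : ∀ q, Algebra A (F q) := fun q =>
    ((algebraMap Ah (F q)).comp (algebraMap A Ah)).toAlgebra
  haveI : ∀ q, IsScalarTower A Ah (F q) := fun q => IsScalarTower.of_algebraMap_eq fun _ => rfl
  have hN : ∀ q, Module.Finite Ah (integralClosure Ah (F q)) := by
    intro q
    haveI := q.2.1.1
    let hq : K' →+* F q := (algebraMap R0 (F q)).comp
      (Algebra.TensorProduct.includeRight : K' →ₐ[A] R0).toRingHom
    refine finite_integralClosure_field Ah (fun p _ => CAlgN2.isN2_quotient_completion A p) (F q)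
      (Set.range fun i => hq (b i)) (Set.finite_range _) ?_ ?_
    · rintro _ ⟨i, rfl⟩
      have h1 : IsIntegral A ((Algebra.TensorProduct.includeRight : K' →ₐ[A] R0) (b i)) :=
        (hb i).map _
      exact (h1.tower_top (A := Ah)).map (IsScalarTower.toAlgHom Ah R0 (F q))
    · set E := Subfield.closure (Set.range (algebraMap Ah (F q)) ∪ Set.range fun i => hq (b i))
      have hA : ∀ a : A, hq (algebraMap A K' a) ∈ E := fun a => by
        refine Subfield.subset_closure (Or.inl ⟨algebraMap A Ah a, ?_⟩)
        show algebraMap R0 (F q) (algebraMap A Ah a ⊗ₜ[A] (1 : K'))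
          = algebraMap R0 (F q) ((1 : Ah) ⊗ₜ[A] algebraMap A K' a)
        rw [← Algebra.TensorProduct.tmul_one_eq_one_tmul]
      have hK : ∀ x : K', hq x ∈ E := by
        intro x
        rw [← b.sum_repr x, map_sum]
        refine sum_mem fun i _ => ?_
        rw [Algebra.smul_def, map_mul]
        refine mul_mem ?_ (Subfield.subset_closure (Or.inr ⟨i, rfl⟩))
        obtain ⟨a, c, -, e⟩ := IsFractionRing.div_surjective A (b.repr x i)
        rw [← e, map_div₀, map_div₀, ← IsScalarTower.algebraMap_apply,
          ← IsScalarTower.algebraMap_apply]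
        exact div_mem (hA a) (hA c)
      have hR : ∀ z : R0, algebraMap R0 (F q) z ∈ E := by
        intro z
        induction z using TensorProduct.induction_on with
        | zero => rw [map_zero]; exact zero_mem _
        | tmul t x =>
          have : (t ⊗ₜ[A] x : R0) = algebraMap Ah R0 t * ((1 : Ah) ⊗ₜ[A] x) := by
            show (t ⊗ₜ[A] x : R0) = (t ⊗ₜ[A] (1 : K')) * ((1 : Ah) ⊗ₜ[A] x)
            rw [Algebra.TensorProduct.tmul_mul_tmul, mul_one, one_mul]
          rw [this, map_mul]
          exact mul_mem (Subfield.subset_closure (Or.inl ⟨t, rfl⟩)) (hK x)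
        | add x y hx hy => rw [map_add]; exact add_mem hx hy
      refine eq_top_iff.2 fun z _ => ?_
      obtain ⟨u, v, rfl⟩ := hfrac q z
      exact div_mem (hR u) (hR v)
  let χ : ∀ q, Ah ⊗[A] C →ₐ[Ah] integralClosure Ah (F q) := fun q =>
    ((IsScalarTower.toAlgHom Ah R0 (F q)).comp ι).codRestrict _ fun z =>
      (Algebra.IsIntegral.isIntegral z).map _
  let g : ∀ q, C →+* integralClosure Ah (F q) := fun q =>
    (χ q).toRingHom.comp (Algebra.TensorProduct.includeRight : C →ₐ[A] Ah ⊗[A] C).toRingHom
  have key : ∀ m : Ideal C, m.IsMaximal → ∃ (q : minimalPrimes R0)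
      (M : Ideal (integralClosure Ah (F q))), M.IsMaximal ∧ Ideal.comap (g q) M = m := by
    intro m hm
    have hmA : maximalIdeal A ≤ RingHom.ker (Algebra.ofId A (C ⧸ m)) := by
      haveI : (Ideal.comap (algebraMap A C) m).IsMaximal :=
        Ideal.isMaximal_comap_of_isIntegral_of_isMaximal m
      intro a ha
      rw [← IsLocalRing.eq_maximalIdeal this] at ha
      show algebraMap A (C ⧸ m) a = 0
      rw [IsScalarTower.algebraMap_apply A C (C ⧸ m)]
      exact Ideal.Quotient.eq_zero_iff_mem.2 ha
    let e0 : Ah →ₐ[A] C ⧸ m := (Ideal.Quotient.liftₐ (maximalIdeal A) (Algebra.ofId A (C ⧸ m))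
      (fun a ha => hmA ha)).comp (AdicCompletion.evalOneₐ _)
    let ψ : Ah ⊗[A] C →ₐ[A] C ⧸ m :=
      Algebra.TensorProduct.lift e0 (Ideal.Quotient.mkₐ A m) (fun _ _ => Commute.all _ _)
    have hψr : ∀ x : C, ψ (1 ⊗ₜ x) = Ideal.Quotient.mk m x := fun x => by
      simp [ψ, Algebra.TensorProduct.lift_tmul]
    have hψs : Function.Surjective ψ := fun y => by
      obtain ⟨x, rfl⟩ := Ideal.Quotient.mk_surjective y
      exact ⟨_, hψr x⟩
    letI : Field (C ⧸ m) := Ideal.Quotient.field m
    haveI hQm : (RingHom.ker ψ.toRingHom).IsMaximal :=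
      RingHom.ker_isMaximal_of_surjective _ hψs
    obtain ⟨P, hP, hPm⟩ := Ideal.exists_minimalPrimes_le (I := (⊥ : Ideal (Ah ⊗[A] C)))
      (J := RingHom.ker ψ.toRingHom) bot_le
    haveI : P.IsPrime := hP.1.1
    have hPA : ∀ a : A, a ≠ 0 → algebraMap A (Ah ⊗[A] C) a ∉ P := by
      intro a ha hmem
      refine Set.disjoint_left.1 (Ideal.disjoint_nonZeroDivisors_of_mem_minimalPrimes hP) hmem ?_
      rw [SetLike.mem_coe, mem_nonZeroDivisors_iff_right]
      intro z hz
      apply hι
      have h1 : ι z * algebraMap A R0 a = 0 := by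
        rw [← (ι.restrictScalars A).commutes, ← AlgHom.restrictScalars_apply A ι, ← map_mul, hz,
          map_zero]
      have hu : IsUnit (algebraMap A R0 a) := by
        rw [show algebraMap A R0 a
          = (Algebra.TensorProduct.includeRight : K' →ₐ[A] R0) (algebraMap A K' a) from
            ((Algebra.TensorProduct.includeRight : K' →ₐ[A] R0).commutes a).symm]
        exact (IsUnit.mk0 _ (fun h => ha (hAinj (by rw [h, map_zero])))).map _
      rw [map_zero]
      exact hu.mul_left_eq_zero.1 h1
    let iC : C →ₐ[A] Ah ⊗[A] C := Algebra.TensorProduct.includeRight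
    have hPC : Ideal.comap iC P = ⊥ := by
      refine Ideal.eq_bot_of_comap_eq_bot (R := A) ?_
      refine (Submodule.eq_bot_iff _).2 fun a ha => ?_
      by_contra hne
      refine hPA a hne ?_
      rw [← iC.commutes]
      exact ha
    let L := FractionRing ((Ah ⊗[A] C) ⧸ P)
    let mkL : Ah ⊗[A] C →ₐ[A] L :=
      (IsScalarTower.toAlgHom A ((Ah ⊗[A] C) ⧸ P) L).comp (Ideal.Quotient.mkₐ A P)
    have hmk0 : ∀ z, mkL z = 0 → z ∈ P := fun z hz =>
      Ideal.Quotient.eq_zero_iff_mem.1
        (IsFractionRing.injective ((Ah ⊗[A] C) ⧸ P) L (by rw [map_zero]; exact hz))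
    have hinjC : Function.Injective (mkL.comp iC) := by
      refine (injective_iff_map_eq_zero _).2 fun x hx => ?_
      have : x ∈ Ideal.comap iC P := hmk0 _ hx
      rwa [hPC] at this
    let σ : K' →ₐ[A] L := IsFractionRing.liftAlgHom (K := K') hinjC
    let φ : R0 →ₐ[A] L := Algebra.TensorProduct.lift
      (mkL.comp Algebra.TensorProduct.includeLeft) σ (fun _ _ => Commute.all _ _)
    have hφι : φ.comp (ι.restrictScalars A) = mkL := by
      have hσ : ∀ x : C, σ (x : K') = mkL (iC x) := fun x =>
        IsFractionRing.lift_algebraMap (K := K') hinjC x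
      apply Algebra.TensorProduct.ext
      · ext t
        show φ (t ⊗ₜ[A] (1 : K')) = mkL (t ⊗ₜ[A] (1 : C))
        erw [Algebra.TensorProduct.lift_tmul]
        rw [map_one, mul_one]
        rfl
      · ext x
        show φ ((1 : Ah) ⊗ₜ[A] (x : K')) = mkL ((1 : Ah) ⊗ₜ[A] x)
        erw [Algebra.TensorProduct.lift_tmul]
        rw [map_one, one_mul]
        exact hσ x
    haveI : (RingHom.ker φ.toRingHom).IsPrime := RingHom.ker_isPrime _
    obtain ⟨q, hq, hqle⟩ := Ideal.exists_minimalPrimes_le (I := (⊥ : Ideal R0))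
      (J := RingHom.ker φ.toRingHom) bot_le
    haveI : q.IsPrime := hq.1.1
    have hqP : Ideal.comap ι q = P := by
      refine le_antisymm (fun z hz => hmk0 z ?_) ?_
      · rw [← hφι]; exact hqle hz
      · refine hP.2 ⟨Ideal.IsPrime.comap _, bot_le⟩ fun z hz => hmk0 z ?_
        rw [← hφι]; exact hqle hz
    let q' : minimalPrimes R0 := ⟨q, hq⟩
    have hkerχ : RingHom.ker (χ q').toRingHom = P := by
      rw [← hqP]
      ext z
      rw [RingHom.mem_ker, Ideal.mem_comap]
      show (χ q') z = 0 ↔ _
      rw [← Subtype.coe_inj]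
      show algebraMap R0 (F q') (ι z) = 0 ↔ _
      rw [← RingHom.mem_ker, hker]
    letI : Algebra (Ah ⊗[A] C) (integralClosure Ah (F q')) := (χ q').toRingHom.toAlgebra
    haveI : IsScalarTower Ah (Ah ⊗[A] C) (integralClosure Ah (F q')) :=
      IsScalarTower.of_algebraMap_eq fun t => ((χ q').commutes t).symm
    haveI : Algebra.IsIntegral (Ah ⊗[A] C) (integralClosure Ah (F q')) :=
      Algebra.IsIntegral.tower_top Ah
    obtain ⟨M, hM, hMm⟩ := Ideal.exists_ideal_over_maximal_of_isIntegral
      (S := integralClosure Ah (F q')) (RingHom.ker ψ.toRingHom) (hkerχ.le.trans hPm)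
    refine ⟨q', M, hM, ?_⟩
    ext x
    rw [← Ideal.Quotient.eq_zero_iff_mem (I := m), ← hψr]
    exact SetLike.ext_iff.1 hMm ((1 : Ah) ⊗ₜ[A] x)
  have hfinM : ∀ q, {M : Ideal (integralClosure Ah (F q)) | M.IsMaximal}.Finite := by
    intro q
    haveI := hN q
    refine (Algebra.QuasiFinite.finite_primesOver (R := Ah) (S := integralClosure Ah (F q))
      (maximalIdeal Ah)).subset fun M hM => ⟨Ideal.IsMaximal.isPrime hM, ⟨?_⟩⟩
    haveI : M.IsMaximal := hM
    exact (IsLocalRing.eq_maximalIdeal (Ideal.isMaximal_comap_of_isIntegral_of_isMaximal M)).symm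
  refine ⟨?_, ?_⟩
  · haveI : Finite (minimalPrimes R0) := (minimalPrimes.finite_of_isNoetherianRing R0).to_subtype
    refine (Set.finite_iUnion fun q : minimalPrimes R0 =>
      (hfinM q).image (Ideal.comap (g q))).subset ?_
    intro m hm
    obtain ⟨q, M, hM, rfl⟩ := key m hm
    exact Set.mem_iUnion.2 ⟨q, M, hM, rfl⟩
  · intro m hm
    obtain ⟨q, M, hM, hMm⟩ := key m hm
    haveI := hN q
    haveI : M.IsMaximal := hM
    let p := M.under Ah
    haveI hp : p.IsMaximal := Ideal.isMaximal_comap_of_isIntegral_of_isMaximal M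
    haveI : Module.Finite A (Ah ⧸ p) := by
      refine Module.Finite.of_surjective (Algebra.linearMap A (Ah ⧸ p)) fun y => ?_
      obtain ⟨t, rfl⟩ := Ideal.Quotient.mk_surjective y
      obtain ⟨a, ha⟩ := Ideal.Quotient.mk_surjective (AdicCompletion.evalOneₐ (maximalIdeal A) t)
      refine ⟨a, Ideal.Quotient.eq.2 ?_⟩
      haveI hk : (RingHom.ker (AdicCompletion.evalOneₐ (maximalIdeal A)).toRingHom).IsMaximal := by
        letI : Field (A ⧸ maximalIdeal A) := Ideal.Quotient.field _
        exact RingHom.ker_isMaximal_of_surjective _ (AdicCompletion.evalOneₐ_surjective _)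
      rw [IsLocalRing.eq_maximalIdeal hp, ← IsLocalRing.eq_maximalIdeal hk, RingHom.mem_ker,
        map_sub, sub_eq_zero]
      exact ((AdicCompletion.evalOneₐ (maximalIdeal A)).commutes a).trans ha
    haveI : Module.Finite A (integralClosure Ah (F q) ⧸ M) := Module.Finite.trans (Ah ⧸ p) _
    let gA : C →ₐ[A] integralClosure Ah (F q) :=
      ((χ q).restrictScalars A).comp Algebra.TensorProduct.includeRight
    let f : (C ⧸ m) →ₐ[A] integralClosure Ah (F q) ⧸ M :=
      Ideal.quotientMapₐ M gA hMm.ge
    exact Module.Finite.of_injective f.toLinearMap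
      (Ideal.quotientMap_injective' (f := gA.toRingHom) (H := hMm.ge) hMm.le)

end Groth.Agent.NormSemiloc
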